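import Groth.Agent.Lib.Excellent.FlatFibres
import Groth.Agent.Lib.FibreDimRing.Basic
import Groth.Agent.Lib.Equidim6.Basic
import Groth.Agent.Lib.HLVT.Sdim
import Groth.Agent.Lib.LCI6.Field
import Groth.Agent.Lib.CMBasics.Basic
import Groth.Agent.Lib.HB26.Spread
import Groth.Agent.Lib.FibreDimAt6.Scheme
import Mathlib

/-!
# Fibre dimension, fibre local rings and regular sequences
-/

set_option autoImplicit false
universe u

open CategoryTheory AlgebraicGeometry IsLocalRing TensorProduct

namespace GrothLib.FibRegOpen1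

theorem ringKrullDim_quot_bot (X : Type u) [CommRing X] : ringKrullDim (X ⧸ (⊥ : Ideal X)) = ringKrullDim X :=
  ringKrullDim_eq_of_ringEquiv (RingEquiv.quotientBot X)

/-- The local dimension of the spectrum of an algebra of finite type over a field at a prime. -/
theorem localDim_prime {K G : Type u} [Field K] [CommRing G] [Algebra K G] [Algebra.FiniteType K G]
    (P : PrimeSpectrum G) : FlatMor.localDim (PrimeSpectrum G) P =
      ringKrullDim (G ⧸ P.asIdeal) + ringKrullDim (Localization.AtPrime P.asIdeal) := by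
  let s := Spec.map (CommRingCat.ofHom (algebraMap K G))
  haveI : LocallyOfFiniteType s := (HasRingHomProperty.Spec_iff (P := @LocallyOfFiniteType)).2
    (RingHom.finiteType_algebraMap.2 ‹_›)
  have h := GrothLib.AffDom.localDim_eq (K := K) s P
  refine h.trans (congrArg₂ (· + ·) ?_ (ringKrullDim_eq_of_ringEquiv
    (Spec.stalkIso (CommRingCat.of G) P).commRingCatIsoToRingEquiv))
  rw [← GrothLib.HLVT.topologicalKrullDim_zeroLocus, GrothLib.AffDom.ptDim]
  exact congrArg (fun Z : Set (PrimeSpectrum G) => topologicalKrullDim Z) (PrimeSpectrum.closure_singleton P)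

/-- The local ring of the fibre at a point over `q` is the fibre local ring. -/
theorem nonempty_localization_equiv {R S : Type u} [CommRing R] [CommRing S] [Algebra R S] (q : PrimeSpectrum S)
    {p : Ideal R} [p.IsPrime] (hp : q.asIdeal.under R = p) (Q : PrimeSpectrum (p.Fiber S))
    (hQ : Q.asIdeal.comap (Algebra.TensorProduct.includeRight.toRingHom) = q.asIdeal) :
    Nonempty (Localization.AtPrime Q.asIdeal ≃+* EGA4.FibLocRing R S q.asIdeal) := by
  subst hp
  let p := q.asIdeal.under R
  suffices key : Nonempty (Localization.AtPrime Q.asIdeal ≃+*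
      (Localization.AtPrime (Q.asIdeal.comap Algebra.TensorProduct.includeRight) ⧸
        p.map (algebraMap R (Localization.AtPrime (Q.asIdeal.comap Algebra.TensorProduct.includeRight))))) from
    (fun (r : Ideal S) [r.IsPrime] (e : r = q.asIdeal) (h : Nonempty (Localization.AtPrime Q.asIdeal ≃+*
        (Localization.AtPrime r ⧸ p.map (algebraMap R (Localization.AtPrime r))))) =>
      (by subst e; exact h : Nonempty (Localization.AtPrime Q.asIdeal ≃+* EGA4.FibLocRing R S q.asIdeal))) _ hQ key
  have hover : (Q.asIdeal.comap Algebra.TensorProduct.includeRight : Ideal S).LiesOver p :=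
    ⟨(congrArg (Ideal.under R) hQ).symm⟩
  let _ := Localization.AtPrime.algebraOfLiesOver p
    (Q.asIdeal.comap Algebra.TensorProduct.includeRight : Ideal S)
  exact ⟨(Ideal.Fiber.localizationAlgEquivQuotient p Q.asIdeal).toRingEquiv⟩

/-- The dimension of the quotient of a fibre local ring by an ideal is a height. -/
theorem ringKrullDim_fibLocRing_quotient {R S : Type u} [CommRing R] [CommRing S] [Algebra R S]
    (q : Ideal S) [q.IsPrime] (J : Ideal S) (hJ : J ≤ q) :
    ringKrullDim (EGA4.FibLocRing R S q ⧸ J.map (algebraMap S (EGA4.FibLocRing R S q))) =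
      ((q.map (Ideal.Quotient.mk ((q.under R).map (algebraMap R S) ⊔ J))).height : WithBot ℕ∞) := by
  rw [← GrothLib.LCI6.ringKrullDim_localization_quotient _ q (sup_le Ideal.map_comap_le hJ)]
  refine ringKrullDim_eq_of_ringEquiv ?_
  refine (Ideal.quotEquivOfEq ?_).trans ((DoubleQuot.quotQuotEquivQuotSup _ (J.map (algebraMap S (Localization.AtPrime q)))).trans
    (Ideal.quotEquivOfEq ?_))
  · rw [Ideal.map_map]; rfl
  · rw [Ideal.map_sup, Ideal.map_map, ← IsScalarTower.algebraMap_eq]

/-- The fibre dimension of a closed subscheme against that of the ambient scheme. -/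
theorem fibreDimAt_quotient_add {R S : Type u} [CommRing R] [CommRing S] [Algebra R S] [Algebra.FiniteType R S]
    (J : Ideal S) (q : PrimeSpectrum (S ⧸ J)) (p : Ideal R) [p.IsPrime] (hp : q.asIdeal.under R = p) :
    ∃ (Q : PrimeSpectrum (p.Fiber S)) (t : WithBot ℕ∞),
      0 ≤ t ∧ t + ringKrullDim (EGA4.FibLocRing R S (q.asIdeal.comap (Ideal.Quotient.mk J))) =
        FlatMor.localDim (PrimeSpectrum (p.Fiber S)) Q ∧
      FlatMor.fibreDimAt (Spec.map (CommRingCat.ofHom (algebraMap R (S ⧸ J)))) q =
        t + ringKrullDim (EGA4.FibLocRing R S (q.asIdeal.comap (Ideal.Quotient.mk J)) ⧸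
          J.map (algebraMap S (EGA4.FibLocRing R S (q.asIdeal.comap (Ideal.Quotient.mk J))))) := by
  set q₀ := q.asIdeal.comap (Ideal.Quotient.mk J) with hq₀
  have hp₀ : q₀.under R = p := by
    rw [← hp, hq₀, Ideal.under_def, Ideal.under_def, Ideal.comap_comap]; rfl
  obtain ⟨Q', hQ'⟩ : ∃ Q' : PrimeSpectrum (p.Fiber (S ⧸ J)),
      Q'.asIdeal.comap (Algebra.TensorProduct.includeRight.toRingHom) = q.asIdeal := by
    subst hp
    exact GrothLib.FibreDimRing.exists_fibre_point (R := R) q
  let κ := p.ResidueField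
  let ψ : p.Fiber S →ₐ[κ] p.Fiber (S ⧸ J) :=
    Algebra.TensorProduct.map (AlgHom.id κ p.ResidueField) (Ideal.Quotient.mkₐ R J)
  have hψ : Function.Surjective ψ := by
    intro y
    induction y using TensorProduct.induction_on with
    | zero => exact ⟨0, map_zero ψ⟩
    | tmul a b =>
      obtain ⟨b, rfl⟩ := Ideal.Quotient.mk_surjective b
      exact ⟨a ⊗ₜ[R] b, Algebra.TensorProduct.map_tmul _ _ _ _⟩
    | add y z hy hz =>
      obtain ⟨y, rfl⟩ := hy
      obtain ⟨z, rfl⟩ := hz
      exact ⟨y + z, map_add ψ y z⟩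
  let Q : PrimeSpectrum (p.Fiber S) := PrimeSpectrum.comap ψ.toRingHom Q'
  have hQ : Q.asIdeal.comap (Algebra.TensorProduct.includeRight.toRingHom) = q₀ := by
    rw [hq₀, ← hQ']
    ext x
    simp [Q, ψ]
  refine ⟨Q, ringKrullDim (p.Fiber S ⧸ Q.asIdeal), ringKrullDim_nonneg_of_nontrivial, ?_, ?_⟩
  · rw [localDim_prime (K := κ) Q]
    obtain ⟨e⟩ := nonempty_localization_equiv (R := R) ⟨q₀, inferInstance⟩ hp₀ Q hQ
    exact congrArg (_ + ·) (ringKrullDim_eq_of_ringEquiv e).symm
  · rw [GrothLib.FibreDimRing.fibreDimAt_eq_localDim q p hp Q' hQ', localDim_prime (K := κ) Q']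
    congr 1
    · let g : p.Fiber S →+* p.Fiber (S ⧸ J) ⧸ Q'.asIdeal := (Ideal.Quotient.mk Q'.asIdeal).comp ψ.toRingHom
      have hg : Function.Surjective g := Ideal.Quotient.mk_surjective.comp hψ
      have hk : Q.asIdeal = RingHom.ker g := by
        ext x
        show ψ x ∈ Q'.asIdeal ↔ Ideal.Quotient.mk Q'.asIdeal (ψ x) = 0
        rw [Ideal.Quotient.eq_zero_iff_mem]
      exact (ringKrullDim_eq_of_ringEquiv
        ((Ideal.quotEquivOfEq hk).trans (RingHom.quotientKerEquivOfSurjective hg))).symm
    · obtain ⟨e⟩ := nonempty_localization_equiv (R := R) q hp Q' hQ'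
      rw [ringKrullDim_eq_of_ringEquiv e, ringKrullDim_fibLocRing_quotient q₀ J
        (le_of_eq_of_le Ideal.mk_ker.symm (Ideal.comap_mono bot_le))]
      have h := ringKrullDim_fibLocRing_quotient (R := R) q.asIdeal ⊥ bot_le
      rw [Ideal.map_bot] at h
      rw [← ringKrullDim_quot_bot (EGA4.FibLocRing R (S ⧸ J) q.asIdeal), h]
      congr 1
      rw [sup_bot_eq]
      let e' : (S ⧸ J) ⧸ (q.asIdeal.under R).map (algebraMap R (S ⧸ J)) ≃+* S ⧸ ((q₀.under R).map (algebraMap R S) ⊔ J) :=
        (Ideal.quotEquivOfEq (by rw [Ideal.map_map, ← Ideal.Quotient.algebraMap_eq, ← IsScalarTower.algebraMap_eq])).trans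
          ((DoubleQuot.quotQuotEquivQuotSup J ((q.asIdeal.under R).map (algebraMap R S))).trans
            (Ideal.quotEquivOfEq (sup_comm _ _)))
      rw [← RingEquiv.height_map e' (q.asIdeal.map _)]
      congr 1
      have hq : q.asIdeal = q₀.map (Ideal.Quotient.mk J) :=
        (Ideal.map_comap_of_surjective _ Ideal.Quotient.mk_surjective _).symm
      show Ideal.map e'.toRingHom (Ideal.map _ q.asIdeal) = _
      rw [Ideal.map_map]
      refine (congrArg (Ideal.map _) hq).trans ?_
      rw [Ideal.map_map]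
      rfl

end GrothLib.FibRegOpen1
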